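import Mathlib
import Cfsg.Agent.H725.Om.Gauss

/-!
# Exponential sums over the singular vectors (helper725, S4795, `q ≥ 5`)
-/

set_option autoImplicit false
set_option linter.unusedSectionVars false

namespace Cfsg.Agent.H725.Om

open QuadraticMap Cfsg.Agent.LieClassical.QuadForms Cfsg.Agent.LieClassical.OrthCore

variable {F : Type*} [Field F] [Fintype F] [DecidableEq F]

/-- the quadratic character with complex values -/
noncomputable def eta (a : F) : ℂ := ((quadraticChar F a : ℤ) : ℂ)

theorem eta_zero : eta (0 : F) = 0 := by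
  unfold eta
  rw [quadraticChar_zero]
  norm_num

theorem eta_one : eta (1 : F) = 1 := by
  unfold eta
  rw [map_one]
  norm_num

theorem eta_mul (a b : F) : eta (a * b) = eta a * eta b := by
  unfold eta
  rw [map_mul]
  push_cast
  rfl

theorem eta_sq {a : F} (ha : a ≠ 0) : eta a * eta a = 1 := by
  unfold eta
  have h := quadraticChar_sq_one ha
  rw [← pow_two]
  exact_mod_cast h

theorem eta_inv (a : F) : eta a⁻¹ = eta a := by
  by_cases ha : a = 0
  · rw [ha, inv_zero]
  · have h1 : eta a⁻¹ * eta a = 1 := by rw [← eta_mul, inv_mul_cancel₀ ha, eta_one]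
    have h2 := eta_sq ha
    linear_combination eta a * h1 - eta a⁻¹ * h2

section odd

variable (h2 : ringChar F ≠ 2) {ψ : AddChar F ℂ} (hψ : ψ ≠ 1)

include h2

theorem eta_sum : ∑ a : F, eta a = 0 := by
  unfold eta
  have h := quadraticChar_sum_zero h2
  rw [← Int.cast_sum, h, Int.cast_zero]

/-- the Gauss sum -/
noncomputable def GG (ψ : AddChar F ℂ) : ℂ := ∑ a : F, eta a * ψ a

include hψ

theorem GG_sq : GG ψ * GG ψ = eta (-1 : F) * Fintype.card F := by
  have h := gaussSum_sq (χ := (quadraticChar F).ringHomComp (Int.castRingHom ℂ)) (by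
    intro h1
    apply quadraticChar_ne_one h2
    ext a
    have h3 := congrArg (fun χ : MulChar F ℂ => χ a) h1
    have h4 : ((quadraticChar F a : ℤ) : ℂ) = 1 := by
      rw [MulChar.one_apply_coe] at h3
      exact h3
    rw [MulChar.one_apply_coe]
    exact_mod_cast h4) ((quadraticChar_isQuadratic F).comp _) (AddChar.IsPrimitive.of_ne_one hψ)
  rw [pow_two] at h
  exact h

omit hψ in
theorem GG_shift (b : F) : ∑ a : F, eta a * ψ (a * b) = eta b * GG ψ := by
  by_cases hb : b = 0
  · subst hb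
    simp only [mul_zero, AddChar.map_zero_eq_one, mul_one]
    rw [eta_sum h2, eta_zero, zero_mul]
  · unfold GG
    rw [Finset.mul_sum, ← Equiv.sum_comp (Equiv.mulRight₀ b hb) (fun a => eta b * (eta a * ψ a))]
    refine Finset.sum_congr rfl fun a _ => ?_
    change _ = eta b * (eta (a * b) * ψ (a * b))
    rw [eta_mul]
    have := eta_sq hb
    linear_combination (-eta a * ψ (a * b)) * this

theorem sum_sqs {k : F} (hk : k ≠ 0) : ∑ a : F, ψ (k * (a * a)) = eta k * GG ψ := by
  have h1 : ∑ a : F, ψ (k * (a * a)) = ∑ b : F, ∑ a : F, if a * a = b then ψ (k * b) else 0 := by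
    rw [Finset.sum_comm]
    refine Finset.sum_congr rfl fun a _ => ?_
    rw [Finset.sum_ite_eq Finset.univ (a * a), if_pos (Finset.mem_univ _)]
  have h3 : ∀ b : F, (∑ a : F, if a * a = b then ψ (k * b) else 0) = (1 + eta b) * ψ (k * b) := by
    intro b
    rw [← Finset.sum_filter, Finset.sum_const, nsmul_eq_mul]
    congr 1
    have h4 := quadraticChar_card_sqrts h2 b
    have h5 : {x : F | x ^ 2 = b}.toFinset = Finset.univ.filter (fun a : F => a * a = b) := by
      ext a
      simp [pow_two]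
    rw [h5] at h4
    unfold eta
    have h6 : (((Finset.univ.filter (fun a : F => a * a = b)).card : ℤ) : ℂ) = ((quadraticChar F b + 1 : ℤ) : ℂ) := by
      rw [h4]
    push_cast at h6
    rw [h6]
    ring
  rw [h1, Finset.sum_congr rfl fun b _ => h3 b]
  simp only [add_mul, one_mul]
  rw [Finset.sum_add_distrib]
  have h7 : ∑ b : F, ψ (k * b) = 0 := by
    have := sum_lin hψ (l := LinearMap.mulLeft F k) (fun h => hk (by
      have := LinearMap.congr_fun h 1
      simpa using this))
    simpa using this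
  have h8 := GG_shift (ψ := ψ) h2 k
  simp only [mul_comm k]
  rw [h8]
  simp only [mul_comm k] at h7
  rw [h7, zero_add]

omit h2 in
theorem sum_plus' {n : ℕ} {k : F} (hk : k ≠ 0) :
    ∑ h : Fin n ⊕ Fin n → F, ψ (k * plusForm n F h) = (Fintype.card F : ℂ) ^ n := by
  rw [← (Equiv.sumArrowEquivProdArrow (Fin n) (Fin n) F).symm.sum_comp, Fintype.sum_prod_type]
  have h1 : ∀ x : Fin n → F, ∑ y : Fin n → F,
      ψ (k * plusForm n F ((Equiv.sumArrowEquivProdArrow (Fin n) (Fin n) F).symm (x, y))) =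
      if x = 0 then (Fintype.card F : ℂ) ^ n else 0 := by
    intro x
    have h2 : ∀ y : Fin n → F,
        k * plusForm n F ((Equiv.sumArrowEquivProdArrow (Fin n) (Fin n) F).symm (x, y)) = lin k x y := by
      intro y
      rw [plusForm_apply]
      rfl
    simp only [h2]
    split_ifs with h
    · have h4 : ∀ y : Fin n → F, lin k x y = 0 := by
        intro y
        change k * ∑ i, x i * y i = 0
        rw [h]
        simp
      simp only [h4, AddChar.map_zero_eq_one, Finset.sum_const, Finset.card_univ, Fintype.card_fun,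
        Fintype.card_fin]
      rw [nsmul_eq_mul, mul_one]
      push_cast
      rfl
    · apply sum_lin hψ
      intro h4
      apply h
      ext i
      have h5 := LinearMap.congr_fun h4 (Pi.single i 1)
      change k * ∑ j, x j * (Pi.single i 1 : Fin n → F) j = 0 at h5
      rw [Finset.sum_eq_single i] at h5
      · rw [Pi.single_eq_same, mul_one] at h5
        exact (mul_eq_zero.1 h5).resolve_left hk
      · intro j _ hj
        rw [Pi.single_eq_of_ne hj, mul_zero]
      · intro h6
        exact absurd (Finset.mem_univ i) h6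
  rw [Finset.sum_congr rfl fun x _ => h1 x, Finset.sum_ite_eq' Finset.univ 0]
  simp

theorem sum_odd' {n : ℕ} {k : F} (hk : k ≠ 0) :
    ∑ u : Unit ⊕ (Fin n ⊕ Fin n) → F, ψ (k * oddForm n F u) = (Fintype.card F : ℂ) ^ n * (eta k * GG ψ) := by
  rw [← (Equiv.sumArrowEquivProdArrow Unit (Fin n ⊕ Fin n) F).symm.sum_comp, Fintype.sum_prod_type]
  have h1 : ∀ (x : Unit → F) (y : Fin n ⊕ Fin n → F),
      ψ (k * oddForm n F ((Equiv.sumArrowEquivProdArrow Unit (Fin n ⊕ Fin n) F).symm (x, y))) =
      ψ (k * (x () * x ())) * ψ (k * plusForm n F y) := by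
    intro x y
    rw [← AddChar.map_add_eq_mul, ← mul_add]
    rfl
  simp only [h1]
  simp only [← Finset.mul_sum, sum_plus' hψ hk]
  rw [← Finset.sum_mul, ← (Equiv.funUnique Unit F).symm.sum_comp]
  have h3 : ∀ a : F, (Equiv.funUnique Unit F).symm a () = a := fun a => rfl
  simp only [h3]
  rw [sum_sqs h2 hψ hk]
  ring

end odd

/-- completing the square -/
theorem sum_sq' {V : Type*} [AddCommGroup V] [Module F V] [Fintype V] {Q : QuadraticForm F V} {ψ : AddChar F ℂ}
    {k : F} (hk : k ≠ 0) (x : V) :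
    ∑ u, ψ (k * Q u + polar Q u x) = (∑ u, ψ (k * Q u)) * ψ (-(k⁻¹ * Q x)) := by
  rw [Finset.sum_mul, ← Equiv.sum_comp (Equiv.addRight (k⁻¹ • x)) (fun u => ψ (k * Q u) * ψ (-(k⁻¹ * Q x)))]
  refine Finset.sum_congr rfl fun u _ => ?_
  rw [Equiv.coe_addRight, ← AddChar.map_add_eq_mul, Q_add, QuadraticMap.map_smul, polar_smul_right, smul_eq_mul,
    smul_eq_mul]
  congr 1
  have hkk : k * k⁻¹ = 1 := mul_inv_cancel₀ hk
  linear_combination (-(polar Q u x) - k⁻¹ * Q x) * hkk

theorem sum_k' {ψ : AddChar F ℂ} (hψ : ψ ≠ 1) (t : F) :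
    ∑ k : F, ψ (k * t) = if t = 0 then (Fintype.card F : ℂ) else 0 := by
  split_ifs with h
  · subst h
    simp only [mul_zero, AddChar.map_zero_eq_one, Finset.sum_const, Finset.card_univ]
    rw [nsmul_eq_mul, mul_one]
  · have h1 := sum_lin hψ (l := LinearMap.toSpanSingleton F F t) (fun h2 => h (by
      have := LinearMap.congr_fun h2 1
      simpa using this))
    simpa [smul_eq_mul] using h1

/-- the exponential sum over the singular vectors (with zero) -/
theorem S_eq' (h2 : ringChar F ≠ 2) {ψ : AddChar F ℂ} (hψ : ψ ≠ 1) {V : Type*} [AddCommGroup V] [Module F V]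
    [Fintype V] {Q : QuadraticForm F V} {n : ℕ} (hV : Fintype.card V = Fintype.card F ^ (2 * n + 1))
    (hg : ∀ k : F, k ≠ 0 → ∑ u, ψ (k * Q u) = (Fintype.card F : ℂ) ^ n * (eta k * GG ψ))
    {x : V} (hx : x ≠ 0 → ∃ u, polar Q u x ≠ 0) [Decidable (x = 0)] :
    ∑ u, (if Q u = 0 then ψ (polar Q u x) else 0) =
      (Fintype.card F : ℂ) ^ (2 * n) * (if x = 0 then 1 else 0) + (Fintype.card F : ℂ) ^ n * eta (Q x) := by
  have hq0 : (Fintype.card F : ℂ) ≠ 0 := by
    rw [Nat.cast_ne_zero]
    exact Fintype.card_ne_zero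
  have h1 : (Fintype.card F : ℂ) * ∑ u, (if Q u = 0 then ψ (polar Q u x) else 0) =
      ∑ k : F, ∑ u, ψ (k * Q u + polar Q u x) := by
    rw [Finset.mul_sum, Finset.sum_comm]
    refine Finset.sum_congr rfl fun u _ => ?_
    have h3 : ∑ k : F, ψ (k * Q u + polar Q u x) = (∑ k : F, ψ (k * Q u)) * ψ (polar Q u x) := by
      rw [Finset.sum_mul]
      exact Finset.sum_congr rfl fun k _ => AddChar.map_add_eq_mul _ _ _
    rw [h3, sum_k' hψ]
    split_ifs with h
    · rfl
    · ring
  have hz : ∑ u, ψ (0 * Q u + polar Q u x) =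
      (Fintype.card F : ℂ) * ((Fintype.card F : ℂ) ^ (2 * n) * (if x = 0 then 1 else 0)) := by
    split_ifs with h
    · subst h
      simp only [zero_mul, polar_zero_right, add_zero, AddChar.map_zero_eq_one, Finset.sum_const,
        Finset.card_univ, hV]
      rw [nsmul_eq_mul]
      push_cast
      ring
    · simp only [zero_mul, zero_add, mul_zero]
      obtain ⟨u, hu⟩ := hx h
      refine sum_lin hψ (l := (polarBilin Q).flip x) (fun h2 => hu ?_)
      have := LinearMap.congr_fun h2 u
      simpa using this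
  have hs : ∑ k : F, ∑ u, ψ (k * Q u + polar Q u x) = ∑ u, ψ (0 * Q u + polar Q u x) +
      ∑ k : F, (Fintype.card F : ℂ) ^ n * (eta k * GG ψ) * ψ (-(k⁻¹ * Q x)) := by
    rw [← Finset.add_sum_erase Finset.univ _ (Finset.mem_univ (0 : F))]
    congr 1
    rw [← Finset.add_sum_erase Finset.univ (fun k : F => (Fintype.card F : ℂ) ^ n * (eta k * GG ψ) *
      ψ (-(k⁻¹ * Q x))) (Finset.mem_univ (0 : F)), eta_zero]
    have h3 : (Fintype.card F : ℂ) ^ n * (0 * GG ψ) * ψ (-((0 : F)⁻¹ * Q x)) = 0 := by ring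
    rw [h3, zero_add]
    refine Finset.sum_congr rfl fun k hk => ?_
    have hk0 : k ≠ 0 := Finset.ne_of_mem_erase hk
    rw [sum_sq' hk0, hg k hk0]
  have hr : ∑ k : F, (Fintype.card F : ℂ) ^ n * (eta k * GG ψ) * ψ (-(k⁻¹ * Q x)) =
      (Fintype.card F : ℂ) * ((Fintype.card F : ℂ) ^ n * eta (Q x)) := by
    have h3 : ∑ k : F, (Fintype.card F : ℂ) ^ n * (eta k * GG ψ) * ψ (-(k⁻¹ * Q x)) =
        (Fintype.card F : ℂ) ^ n * GG ψ * ∑ k : F, eta k * ψ (k * -(Q x)) := by
      rw [Finset.mul_sum, ← Equiv.sum_comp (Equiv.inv F)]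
      refine Finset.sum_congr rfl fun k _ => ?_
      rw [Equiv.inv_apply, eta_inv, inv_inv, mul_neg]
      ring
    rw [h3, GG_shift h2, ← neg_one_mul, eta_mul]
    have h4 := GG_sq h2 hψ
    have h5 := eta_sq (neg_ne_zero.2 (one_ne_zero (α := F)))
    linear_combination ((Fintype.card F : ℂ) ^ n * eta (-1 : F) * eta (Q x)) * h4 +
      ((Fintype.card F : ℂ) ^ n * eta (Q x) * Fintype.card F) * h5
  rw [hs, hz, hr, ← mul_add] at h1
  exact mul_left_cancel₀ hq0 h1

end Cfsg.Agent.H725.Om
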