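import Mathlib
import Cfsg.Agent.H725.Om.EtaSum
import Cfsg.Agent.H725.Om.Trans
import Cfsg.Agent.H725.Om.Dim

/-!
# The kernel on the singular vectors (helper725, S4795, `q ≥ 5`)
-/

set_option autoImplicit false
set_option linter.unusedSectionVars false

namespace Cfsg.Agent.H725.Om

open QuadraticMap Cfsg.Agent.LieClassical.QuadForms Cfsg.Agent.LieClassical.OrthCore
open Cfsg.Agent.LieClassical.OrthTrans Module

/-- dimension of an eigenspace from the traces, three eigenvalues `0, a, b` -/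
theorem finrank_eig3 {X : Type*} [Fintype X] [DecidableEq X] {C : Matrix X X ℂ} {a b : ℂ} (ha : a ≠ 0)
    (hab : a - b ≠ 0) (h3 : C * C * C = (a + b) • (C * C) - (a * b) • C) :
    a * (a - b) * (finrank ℂ (eig (fun x y => C x y) a) : ℂ) = (C * C).trace - b * C.trace := by
  set c : ℂ := (a * (a - b))⁻¹ with hc
  have hc0 : a * (a - b) ≠ 0 := mul_ne_zero ha hab
  let P : Matrix X X ℂ := c • (C * C - b • C)
  have hCP : C * P = a • P := by
    change C * (c • (C * C - b • C)) = a • (c • (C * C - b • C))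
    rw [Matrix.mul_smul, Matrix.mul_sub, ← Matrix.mul_assoc, h3, Matrix.mul_smul, smul_comm a c]
    congr 1
    module
  have hproj : LinearMap.IsProj (eig (fun x y => C x y) a) (Matrix.toLin' P) := by
    refine ⟨fun φ => ?_, fun φ hφ => ?_⟩
    · rw [mem_eig]
      intro x
      have h1 : C.mulVec (P.mulVec φ) = a • (P.mulVec φ) := by
        rw [Matrix.mulVec_mulVec, hCP, Matrix.smul_mulVec]
      exact congrFun h1 x
    · have h1 : C.mulVec φ = a • φ := by
        ext x
        exact hφ x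
      rw [Matrix.toLin'_apply]
      change (c • (C * C - b • C)).mulVec φ = φ
      rw [Matrix.smul_mulVec, Matrix.sub_mulVec, ← Matrix.mulVec_mulVec, h1, Matrix.mulVec_smul, h1,
        Matrix.smul_mulVec, h1]
      have h2 : c * (a * (a - b)) = 1 := inv_mul_cancel₀ hc0
      have h5 : c • (a • a • φ - b • a • φ) = (c * (a * (a - b))) • φ := by module
      rw [h5, h2, one_smul]
  have h4 := hproj.trace
  rw [Matrix.trace_toLin'_eq] at h4
  rw [← h4]
  change _ * Matrix.trace (c • (C * C - b • C)) = _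
  rw [Matrix.trace_smul, Matrix.trace_sub, Matrix.trace_smul, smul_eq_mul, smul_eq_mul, ← mul_assoc, hc,
    mul_inv_cancel₀ hc0, one_mul]

/-- the nonzero singular vectors -/
def YY (F : Type*) [Field F] (n : ℕ) : Type _ :=
  {v : Unit ⊕ (Fin n ⊕ Fin n) → F // v ≠ 0 ∧ oddForm n F v = 0}

variable {F : Type*} [Field F] {n : ℕ}

instance : MulAction (E (oddForm n F)) (YY F n) where
  smul g v := ⟨(g : _ ≃ₗ[F] _) v.1, fun h => v.2.1 ((LinearEquiv.map_eq_zero_iff _).1 h), by
    rw [E_le_O g.2]; exact v.2.2⟩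
  one_smul v := rfl
  mul_smul g h v := rfl

theorem smul_val' (g : E (oddForm n F)) (v : YY F n) : (g • v).1 = (g : _ ≃ₗ[F] _) v.1 := rfl

/-- scalar multiples -/
def sc (t : F) (ht : t ≠ 0) (v : YY F n) : YY F n :=
  ⟨t • v.1, fun h => v.2.1 ((smul_eq_zero.1 h).resolve_left ht), by
    rw [QuadraticMap.map_smul, v.2.2, smul_zero]⟩

variable [Fintype F] [DecidableEq F]

instance : Fintype (YY F n) :=
  inferInstanceAs (Fintype {v : Unit ⊕ (Fin n ⊕ Fin n) → F // v ≠ 0 ∧ oddForm n F v = 0})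

instance : DecidableEq (YY F n) :=
  inferInstanceAs (DecidableEq {v : Unit ⊕ (Fin n ⊕ Fin n) → F // v ≠ 0 ∧ oddForm n F v = 0})

/-- the kernel -/
noncomputable def CE : Matrix (YY F n) (YY F n) ℂ := fun v w => eta (polar (oddForm n F) v.1 w.1)

theorem CE_apply (v w : YY F n) : CE v w = eta (polar (oddForm n F) v.1 w.1) := rfl

/-- the scaling kernel -/
noncomputable def RR : Matrix (YY F n) (YY F n) ℂ := fun v w => ∑ t : F, if w.1 = t • v.1 then eta t else 0

theorem sum_YY (f : (Unit ⊕ (Fin n ⊕ Fin n) → F) → ℂ) :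
    ∑ u : YY F n, f u.1 = (∑ u, if oddForm n F u = 0 then f u else 0) - f 0 := by
  have h1 : ∑ u : YY F n, f u.1 = ∑ u, if u ≠ 0 ∧ oddForm n F u = 0 then f u else 0 := by
    rw [← Finset.sum_filter]
    exact (Finset.sum_subtype (p := fun v => v ≠ 0 ∧ oddForm n F v = 0) _ (by simp) f).symm
  rw [h1, ← Finset.add_sum_erase Finset.univ (fun u => if oddForm n F u = 0 then f u else 0)
    (Finset.mem_univ (0 : Unit ⊕ (Fin n ⊕ Fin n) → F)),
    ← Finset.add_sum_erase Finset.univ (fun u => if u ≠ 0 ∧ oddForm n F u = 0 then f u else 0)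
    (Finset.mem_univ (0 : Unit ⊕ (Fin n ⊕ Fin n) → F)), if_neg (fun h => h.1 rfl), if_pos (map_zero _), zero_add,
    add_sub_cancel_left]
  refine Finset.sum_congr rfl fun u hu => ?_
  have hu0 := Finset.ne_of_mem_erase hu
  simp [hu0]

section odd

variable (h2 : ringChar F ≠ 2)

include h2

theorem two_ne : (2 : F) ≠ 0 := Ring.two_ne_zero h2

theorem good' (hn : 2 ≤ n) : Good (oddForm n F) := AutOrth.Main.good_odd hn (two_ne h2)

theorem sum_psi_YY (hn : 2 ≤ n) {ψ : AddChar F ℂ} (hψ : ψ ≠ 1) (x : Unit ⊕ (Fin n ⊕ Fin n) → F) :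
    ∑ u : YY F n, ψ (polar (oddForm n F) u.1 x) =
      (Fintype.card F : ℂ) ^ (2 * n) * (if x = 0 then 1 else 0) +
        (Fintype.card F : ℂ) ^ n * eta (oddForm n F x) - 1 := by
  have hV : Fintype.card (Unit ⊕ (Fin n ⊕ Fin n) → F) = Fintype.card F ^ (2 * n + 1) := by
    rw [Fintype.card_fun]
    congr 1
    simp only [Fintype.card_sum, Fintype.card_unit, Fintype.card_fin]
    ring
  have hnd : x ≠ 0 → ∃ u, polar (oddForm n F) u x ≠ 0 := by
    intro hx
    by_contra hcon
    push Not at hcon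
    apply hx
    exact (good' h2 hn).nondeg x fun y => by rw [polar_comm]; exact hcon y
  rw [sum_YY (fun u => ψ (polar (oddForm n F) u x)),
    S_eq' h2 hψ hV (fun k hk => sum_odd' h2 hψ hk) hnd, polar_zero_left, AddChar.map_zero_eq_one]

theorem card_YY (hn : 2 ≤ n) : (Fintype.card (YY F n) : ℂ) = (Fintype.card F : ℂ) ^ (2 * n) - 1 := by
  have hψ : ∃ ψ : AddChar F ℂ, ψ ≠ 1 := by
    refine ⟨AddChar.FiniteField.primitiveChar_to_Complex F, fun h => ?_⟩
    have h1 := AddChar.FiniteField.primitiveChar_to_Complex_isPrimitive F (one_ne_zero (α := F))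
    rw [h] at h1
    apply h1
    ext x
    simp
  obtain ⟨ψ, hψ⟩ := hψ
  have h := sum_psi_YY h2 hn hψ (0 : Unit ⊕ (Fin n ⊕ Fin n) → F)
  simp only [polar_zero_right, if_true, map_zero, AddChar.map_zero_eq_one, eta_zero] at h
  rw [Finset.sum_const, Finset.card_univ, nsmul_eq_mul] at h
  linear_combination h

theorem sum_eta_sq : ∑ a : F, eta a * eta a = (Fintype.card F : ℂ) - 1 := by
  rw [← Finset.add_sum_erase Finset.univ _ (Finset.mem_univ (0 : F)), eta_zero, zero_mul, zero_add]
  have h1 : ∀ a ∈ Finset.univ.erase (0 : F), eta a * eta a = 1 := fun a ha => eta_sq (Finset.ne_of_mem_erase ha)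
  rw [Finset.sum_congr rfl h1, Finset.sum_const, Finset.card_erase_of_mem (Finset.mem_univ _), Finset.card_univ,
    nsmul_eq_mul, mul_one, Nat.cast_sub Fintype.card_pos, Nat.cast_one]

/-- the square of the kernel -/
theorem CE_sq (hn : 2 ≤ n) (v w : YY F n) :
    (Fintype.card F : ℂ) * (CE * CE : Matrix (YY F n) (YY F n) ℂ) v w = ((Fintype.card F : ℂ) - 1) * (Fintype.card F : ℂ) ^ (2 * n) * RR v w +
      eta (-1 : F) * ((Fintype.card F : ℂ) - 1) ^ 2 * (Fintype.card F : ℂ) ^ n * CE v w := by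
  have hψ : ∃ ψ : AddChar F ℂ, ψ ≠ 1 := by
    refine ⟨AddChar.FiniteField.primitiveChar_to_Complex F, fun h => ?_⟩
    have h1 := AddChar.FiniteField.primitiveChar_to_Complex_isPrimitive F (one_ne_zero (α := F))
    rw [h] at h1
    apply h1
    ext x
    simp
  obtain ⟨ψ, hψ⟩ := hψ
  set q : ℂ := (Fintype.card F : ℂ) with hq
  have hG := GG_sq h2 hψ
  -- the double sum
  have h1 : GG ψ * GG ψ * (CE * CE : Matrix (YY F n) (YY F n) ℂ) v w = ∑ c : F, ∑ a : F, eta a * eta c *
      (q ^ (2 * n) * (if a • v.1 + c • w.1 = 0 then 1 else 0) +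
        q ^ n * (eta a * eta c * CE v w) - 1) := by
    rw [Matrix.mul_apply, Finset.mul_sum]
    have h3 : ∀ u : YY F n, GG ψ * GG ψ * (CE v u * CE u w) = ∑ c : F, ∑ a : F, eta a * eta c *
        ψ (polar (oddForm n F) u.1 (a • v.1 + c • w.1)) := by
      intro u
      rw [CE_apply, CE_apply]
      have h4 := GG_shift h2 (ψ := ψ) (polar (oddForm n F) v.1 u.1)
      have h5 := GG_shift h2 (ψ := ψ) (polar (oddForm n F) u.1 w.1)
      have h6 : GG ψ * GG ψ * (eta (polar (oddForm n F) v.1 u.1) * eta (polar (oddForm n F) u.1 w.1)) =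
          (∑ a : F, eta a * ψ (a * polar (oddForm n F) v.1 u.1)) *
            (∑ c : F, eta c * ψ (c * polar (oddForm n F) u.1 w.1)) := by
        rw [h4, h5]; ring
      rw [h6, Finset.sum_mul_sum, Finset.sum_comm]
      refine Finset.sum_congr rfl fun c _ => Finset.sum_congr rfl fun a _ => ?_
      rw [polar_add_right, polar_smul_right, polar_smul_right, AddChar.map_add_eq_mul, smul_eq_mul, smul_eq_mul,
        polar_comm _ v.1 u.1]
      ring
    rw [Finset.sum_congr rfl fun u _ => h3 u, Finset.sum_comm]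
    refine Finset.sum_congr rfl fun c _ => ?_
    rw [Finset.sum_comm]
    refine Finset.sum_congr rfl fun a _ => ?_
    rw [← Finset.mul_sum, sum_psi_YY h2 hn hψ]
    have h7 : oddForm n F (a • v.1 + c • w.1) = a * c * polar (oddForm n F) v.1 w.1 := by
      rw [Q_add, QuadraticMap.map_smul, QuadraticMap.map_smul, v.2.2, w.2.2, polar_smul_left, polar_smul_right,
        smul_zero, smul_zero, smul_eq_mul, smul_eq_mul]
      ring
    rw [h7, eta_mul, eta_mul, CE_apply]
  -- evaluation
  have h8 : ∑ c : F, ∑ a : F, eta a * eta c *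
      (q ^ (2 * n) * (if a • v.1 + c • w.1 = 0 then 1 else 0) + q ^ n * (eta a * eta c * CE v w) - 1) =
      (q - 1) * q ^ (2 * n) * eta (-1 : F) * RR v w + q ^ n * (q - 1) ^ 2 * CE v w := by
    have h9 : ∀ c : F, ∑ a : F, eta a * eta c *
        (q ^ (2 * n) * (if a • v.1 + c • w.1 = 0 then 1 else 0) + q ^ n * (eta a * eta c * CE v w) - 1) =
        (eta c * eta c) * (q ^ (2 * n) * eta (-1 : F) * RR v w) + (eta c * eta c) * (q ^ n * (q - 1) * CE v w) := by
      intro c
      have h10 : ∑ a : F, eta a * eta c *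
          (q ^ (2 * n) * (if a • v.1 + c • w.1 = 0 then 1 else 0) + q ^ n * (eta a * eta c * CE v w) - 1) =
          q ^ (2 * n) * (∑ a : F, eta a * eta c * (if a • v.1 + c • w.1 = 0 then 1 else 0)) +
            (q ^ n * (eta c * eta c) * CE v w) * (∑ a : F, eta a * eta a) - eta c * ∑ a : F, eta a := by
        rw [Finset.mul_sum, Finset.mul_sum, Finset.mul_sum, ← Finset.sum_add_distrib, ← Finset.sum_sub_distrib]
        refine Finset.sum_congr rfl fun a _ => ?_
        ring
      rw [h10, eta_sum h2, sum_eta_sq h2]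
      have h11 : ∑ a : F, eta a * eta c * (if a • v.1 + c • w.1 = 0 then 1 else 0) =
          eta c * eta c * eta (-1 : F) * RR v w := by
        by_cases hc : c = 0
        · subst hc
          rw [eta_zero]
          simp
        · have hc' : -c ≠ 0 := neg_ne_zero.2 hc
          rw [← Equiv.sum_comp (Equiv.mulLeft₀ (-c) hc')
            (fun a => eta a * eta c * (if a • v.1 + c • w.1 = 0 then 1 else 0))]
          unfold RR
          rw [Finset.mul_sum]
          refine Finset.sum_congr rfl fun t _ => ?_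
          change eta (-c * t) * eta c * (if (-c * t) • v.1 + c • w.1 = 0 then 1 else 0) = _
          have h12 : ((-c * t) • v.1 + c • w.1 = 0) ↔ (w.1 = t • v.1) := by
            have h13 : (-c * t) • v.1 + c • w.1 = c • (w.1 - t • v.1) := by module
            rw [h13, smul_eq_zero, sub_eq_zero]
            exact ⟨fun h => h.resolve_left hc, Or.inr⟩
          have h14 : -c * t = (-1) * c * t := by ring
          rw [h14, eta_mul, eta_mul]
          rw [← h14]
          by_cases h15 : w.1 = t • v.1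
          · rw [if_pos (h12.2 h15), if_pos h15]
            ring
          · rw [if_neg (fun h => h15 (h12.1 h)), if_neg h15]
            ring
      rw [h11]
      ring
    rw [Finset.sum_congr rfl fun c _ => h9 c, Finset.sum_add_distrib, ← Finset.sum_mul, ← Finset.sum_mul,
      sum_eta_sq h2]
    ring
  rw [h8] at h1
  have he := eta_sq (neg_ne_zero.2 (one_ne_zero (α := F)))
  linear_combination eta (-1 : F) * h1 - eta (-1 : F) * (CE * CE : Matrix (YY F n) (YY F n) ℂ) v w * hG +
    (-(q * (CE * CE : Matrix (YY F n) (YY F n) ℂ) v w) + (q - 1) * q ^ (2 * n) * RR v w) * he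

/-- the scaling kernel acts as a scalar on the kernel -/
theorem RR_CE (v w : YY F n) : ∑ u : YY F n, RR v u * CE u w = ((Fintype.card F : ℂ) - 1) * CE v w := by
  unfold RR
  simp only [Finset.sum_mul]
  rw [Finset.sum_comm, ← sum_eta_sq h2, Finset.sum_mul]
  refine Finset.sum_congr rfl fun t _ => ?_
  by_cases ht : t = 0
  · subst ht
    rw [eta_zero]
    simp
  · rw [Finset.sum_eq_single (sc t ht v)]
    · have h1 : (sc t ht v).1 = t • v.1 := rfl
      rw [if_pos h1, CE_apply, h1, polar_smul_left, smul_eq_mul, eta_mul, CE_apply]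
      ring
    · intro u _ hu
      have h1 : ¬ (u.1 = t • v.1) := fun h => hu (Subtype.ext h)
      rw [if_neg h1, zero_mul]
    · intro h
      exact absurd (Finset.mem_univ _) h

theorem q_ne : (Fintype.card F : ℂ) ≠ 0 := by
  rw [Nat.cast_ne_zero]
  exact Fintype.card_ne_zero

/-- the cube of the kernel -/
theorem CE_cube {m : ℕ} (hm : 1 ≤ m) :
    (CE * CE * CE : Matrix (YY F (m + 1)) (YY F (m + 1)) ℂ) =
      (eta (-1 : F) * ((Fintype.card F : ℂ) - 1) * (Fintype.card F : ℂ) ^ (m + 1) +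
        -(eta (-1 : F) * ((Fintype.card F : ℂ) - 1) * (Fintype.card F : ℂ) ^ m)) • (CE * CE) -
      (eta (-1 : F) * ((Fintype.card F : ℂ) - 1) * (Fintype.card F : ℂ) ^ (m + 1) *
        -(eta (-1 : F) * ((Fintype.card F : ℂ) - 1) * (Fintype.card F : ℂ) ^ m)) • CE := by
  set q : ℂ := (Fintype.card F : ℂ) with hq
  have hq0 : q ≠ 0 := q_ne h2
  have he := eta_sq (neg_ne_zero.2 (one_ne_zero (α := F)))
  ext v w
  rw [Matrix.sub_apply, Matrix.smul_apply, Matrix.smul_apply, smul_eq_mul, smul_eq_mul]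
  apply mul_left_cancel₀ hq0
  have h1 : q * (CE * CE * CE : Matrix (YY F (m + 1)) (YY F (m + 1)) ℂ) v w =
      (q - 1) * q ^ (2 * (m + 1)) * ((q - 1) * CE v w) +
      eta (-1 : F) * (q - 1) ^ 2 * q ^ (m + 1) * (CE * CE : Matrix (YY F (m + 1)) (YY F (m + 1)) ℂ) v w := by
    rw [Matrix.mul_apply, Finset.mul_sum]
    have h3 : ∀ u : YY F (m + 1), q * ((CE * CE : Matrix (YY F (m + 1)) (YY F (m + 1)) ℂ) v u * CE u w) =
        (q - 1) * q ^ (2 * (m + 1)) * (RR v u * CE u w) +
          eta (-1 : F) * (q - 1) ^ 2 * q ^ (m + 1) * (CE v u * CE u w) := by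
      intro u
      have h4 := CE_sq h2 (by omega : 2 ≤ m + 1) v u
      rw [← mul_assoc, h4]
      ring
    rw [Finset.sum_congr rfl fun u _ => h3 u, Finset.sum_add_distrib, ← Finset.mul_sum, ← Finset.mul_sum,
      RR_CE h2, ← Matrix.mul_apply]
  rw [h1]
  have e1 : q ^ (2 * (m + 1)) = q ^ m * q ^ m * q ^ 2 := by ring
  have e2 : q ^ (m + 1) = q ^ m * q := by ring
  rw [e1, e2]
  linear_combination (-(q ^ m * q ^ m * q ^ 2 * (q - 1) ^ 2 * CE v w)) * he

/-- the eigenvalue -/
noncomputable def lam (F : Type*) [Field F] [Fintype F] [DecidableEq F] (m : ℕ) : ℂ :=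
  eta (-1 : F) * ((Fintype.card F : ℂ) - 1) * (Fintype.card F : ℂ) ^ (m + 1)

theorem q1_ne : (Fintype.card F : ℂ) - 1 ≠ 0 := by
  rw [sub_ne_zero]
  have : 1 < Fintype.card F := Fintype.one_lt_card
  exact_mod_cast this.ne'

theorem lam_ne (m : ℕ) : lam F m ≠ 0 := by
  have he := eta_sq (neg_ne_zero.2 (one_ne_zero (α := F)))
  refine mul_ne_zero (mul_ne_zero (fun h => ?_) (q1_ne h2)) (pow_ne_zero _ (q_ne h2))
  rw [h, zero_mul] at he
  exact zero_ne_one he

/-- the dimension of the eigenspace -/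
theorem finrank_YY {m : ℕ} (hm : 1 ≤ m) :
    ((Fintype.card F : ℂ) ^ 2 - 1) * (finrank ℂ (eig (fun v w : YY F (m + 1) => CE v w) (lam F m)) : ℂ) =
      (Fintype.card F : ℂ) ^ (2 * (m + 1)) - 1 := by
  set q : ℂ := (Fintype.card F : ℂ) with hq
  have hq0 : q ≠ 0 := q_ne h2
  have hq1 : q - 1 ≠ 0 := q1_ne h2
  have he := eta_sq (neg_ne_zero.2 (one_ne_zero (α := F)))
  have hd : lam F m - -(eta (-1 : F) * (q - 1) * q ^ m) = eta (-1 : F) * (q - 1) * q ^ m * (q + 1) := by
    unfold lam
    rw [← hq]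
    ring
  have hqp : q + 1 ≠ 0 := by
    rw [hq]
    exact_mod_cast Nat.succ_ne_zero (Fintype.card F)
  have he0 : eta (-1 : F) ≠ 0 := fun h => by
    rw [h, zero_mul] at he
    exact zero_ne_one he
  have h1 := finrank_eig3 (C := (CE : Matrix (YY F (m + 1)) (YY F (m + 1)) ℂ)) (a := lam F m)
    (b := -(eta (-1 : F) * (q - 1) * q ^ m)) (lam_ne h2 m) (by
      rw [hd]
      exact mul_ne_zero (mul_ne_zero (mul_ne_zero he0 hq1) (pow_ne_zero _ hq0)) hqp) (CE_cube h2 hm)
  have h3 : (CE * CE : Matrix (YY F (m + 1)) (YY F (m + 1)) ℂ).trace =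
      (q - 1) * q ^ (2 * m + 1) * (q ^ (2 * (m + 1)) - 1) := by
    rw [Matrix.trace]
    simp only [Matrix.diag_apply]
    have h4 : ∀ v : YY F (m + 1), (CE * CE : Matrix (YY F (m + 1)) (YY F (m + 1)) ℂ) v v =
        (q - 1) * q ^ (2 * m + 1) := by
      intro v
      have h5 := CE_sq h2 (by omega : 2 ≤ m + 1) v v
      have h6 : (RR v v : ℂ) = 1 := by
        unfold RR
        rw [Finset.sum_eq_single (1 : F)]
        · rw [if_pos (one_smul _ _).symm, eta_one]
        · intro t _ ht
          rw [if_neg]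
          intro h
          have h7 : (1 - t) • v.1 = 0 := by rw [sub_smul, one_smul, ← h, sub_self]
          rcases smul_eq_zero.1 h7 with h8 | h8
          · exact ht (sub_eq_zero.1 h8).symm
          · exact v.2.1 h8
        · intro h
          exact absurd (Finset.mem_univ _) h
      have h7 : (CE v v : ℂ) = 0 := by
        rw [CE_apply, polar_self', v.2.2, mul_zero, eta_zero]
      rw [h6, h7] at h5
      apply mul_left_cancel₀ hq0
      rw [h5]
      ring
    rw [Finset.sum_congr rfl fun v _ => h4 v, Finset.sum_const, Finset.card_univ, nsmul_eq_mul,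
      card_YY h2 (by omega)]
    ring
  have h4 : (CE : Matrix (YY F (m + 1)) (YY F (m + 1)) ℂ).trace = 0 := by
    rw [Matrix.trace]
    simp only [Matrix.diag_apply]
    refine Finset.sum_eq_zero fun v _ => ?_
    rw [CE_apply, polar_self', v.2.2, mul_zero, eta_zero]
  rw [h3, h4, mul_zero, sub_zero, hd] at h1
  have h5 : ((q - 1) * q ^ (2 * m + 1)) *
      ((q ^ 2 - 1) * (finrank ℂ (eig (fun v w : YY F (m + 1) => CE v w) (lam F m)) : ℂ)) =
      ((q - 1) * q ^ (2 * m + 1)) * (q ^ (2 * (m + 1)) - 1) := by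
    rw [← h1]
    unfold lam
    rw [← hq]
    linear_combination (-((q - 1) ^ 2 * q ^ (2 * m + 1) * (q + 1) *
      (finrank ℂ (eig (fun v w : YY F (m + 1) => CE v w) (eta (-1 : F) * (q - 1) * q ^ (m + 1))) : ℂ))) * he
  exact mul_left_cancel₀ (mul_ne_zero hq1 (pow_ne_zero _ hq0)) h5

end odd

end Cfsg.Agent.H725.Om
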